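/-
Components of involution centralizers and components of the group (S1322), modulo Feit-Thompson.
-/
import Cfsg.Agent.S1301
import Cfsg.Agent.S1305

set_option autoImplicit false

namespace Cfsg.Agent.Lib.StdFT.Tri

open Subgroup Cfsg Cfsg.Agent.Lib.Components.Basic Cfsg.Agent.Lib.StdComp.Pump
  Cfsg.Agent.Lib.Core.Basic
open scoped commutatorElement

universe u

variable {G : Type u} [Group G] [Finite G]

/-- The Feit-Thompson hypothesis, restricted to the subgroups of `G`. -/
def FT (G : Type u) [Group G] : Prop := ∀ Z : Subgroup G, Odd (Nat.card Z) → Group.IsSolvable Z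

/-- A quasisimple subgroup has even order, given Feit-Thompson. -/
theorem two_dvd_card_of_quasisimple (ft : FT G) {L : Subgroup G} (hL : IsQuasisimple L) :
    2 ∣ Nat.card L := by
  by_contra h
  exact quasisimple_not_solvable hL (ft L (Nat.odd_iff.2 (by omega)))

theorem centralizer_zpowers_eq (t : G) :
    centralizer ((zpowers t : Subgroup G) : Set G) = centralizer ({t} : Set G) := by
  ext x
  rw [mem_centralizer_singleton_iff, Subgroup.mem_centralizer_iff]
  constructor
  · intro hx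
    exact (hx t (mem_zpowers t)).symm
  · rintro hx _ ⟨k, rfl⟩
    exact ((Commute.zpow_right (show Commute x t from hx) k).eq).symm

/-- L-balance for the centralizer of an involution. -/
theorem map_pLayer_le (t : G) (ht : orderOf t = 2) :
    (pLayer 2 ↥(centralizer ({t} : Set G))).map (centralizer ({t} : Set G)).subtype ≤ pLayer 2 G := by
  have hT : IsPGroup 2 ↥(zpowers t : Subgroup G) := by
    rw [IsPGroup.iff_card]
    exact ⟨1, by rw [Nat.card_zpowers, ht, pow_one]⟩
  have h := Cfsg.Agent.S1301.result (zpowers t) hT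
  have hC := centralizer_zpowers_eq t
  rw [hC] at h
  exact h

/-- A component of the centralizer of an involution lies in the layer. -/
theorem le_layer (ft : FT G) (hL2 : pLayer 2 G = layer G) {t : G} (ht : orderOf t = 2) {L : Subgroup G}
    (hLt : L ≤ centralizer ({t} : Set G)) (hL : IsComponent (L.subgroupOf (centralizer ({t} : Set G)))) :
    L ≤ layer G := by
  have hq : IsQuasisimple L := (quasisimple_subgroupOf_iff hLt).1 hL.2
  have h2 := two_dvd_card_of_quasisimple ft hq
  have hc : Nat.card (L.subgroupOf (centralizer ({t} : Set G))) = Nat.card L :=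
    Nat.card_congr (subgroupOfEquivOfLe hLt).toEquiv
  have hP : IsPComponent 2 (L.subgroupOf (centralizer ({t} : Set G))) :=
    Cfsg.Agent.S1305.isPComponent_two hL.1 hL.2 (by rwa [hc])
  have hle : L.subgroupOf (centralizer ({t} : Set G)) ≤ pLayer 2 ↥(centralizer ({t} : Set G)) :=
    le_sSup hP
  intro x hx
  have h3 : x ∈ (pLayer 2 ↥(centralizer ({t} : Set G))).map (centralizer ({t} : Set G)).subtype :=
    ⟨⟨x, hLt hx⟩, hle hx, rfl⟩
  have h4 := map_pLayer_le t ht h3
  rwa [hL2] at h4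

/-- The case of a diagonal subgroup: `L` is the layer of the fixed points in `D ⊔ D^t`. -/
theorem diag_structure {t : G} (ht2 : t * t = 1) {D L : Subgroup G}
    (hDD : ⁅D, D.map (MulAut.conj t).toMonoidHom⁆ = ⊥)
    (hLmem : ∀ k, k ∈ L ↔ ∃ j ∈ D, k = j * (t * j * t⁻¹))
    {x : G} (hx : x ∈ (D ⊔ D.map (MulAut.conj t).toMonoidHom) ⊓ centralizer ({t} : Set G)) :
    ∃ k ∈ L, ∃ z, x = k * z ∧ ∀ y ∈ D ⊔ D.map (MulAut.conj t).toMonoidHom, z * y = y * z := by
  have hti : t⁻¹ = t := inv_eq_of_mul_eq_one_left ht2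
  obtain ⟨d, hd, e, he, rfl⟩ := mem_sup_of_commutator_eq_bot hDD hx.1
  obtain ⟨f, hf, rfl⟩ := he
  simp only [MulEquiv.coe_toMonoidHom, MulAut.conj_apply] at hx ⊢
  have hcomm : ∀ a ∈ D, ∀ b ∈ D, a * (t * b * t⁻¹) = (t * b * t⁻¹) * a := by
    intro a ha b hb
    have h1 := Subgroup.commutator_mem_commutator ha (show t * b * t⁻¹ ∈
      D.map (MulAut.conj t).toMonoidHom from ⟨b, hb, rfl⟩)
    rw [hDD, Subgroup.mem_bot, commutatorElement_eq_one_iff_mul_comm] at h1
    exact h1
  have htc : (d * (t * f * t⁻¹)) * t = t * (d * (t * f * t⁻¹)) :=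
    mem_centralizer_singleton_iff.1 hx.2
  -- `t x t⁻¹ = x`
  have h2 : (t * d * t⁻¹) * f = d * (t * f * t⁻¹) := by
    have h3 : t * (d * (t * f * t⁻¹)) * t⁻¹ = d * (t * f * t⁻¹) := by
      rw [← htc]; group
    rw [← h3, hti]
    have e : t * (d * (t * f * t)) * t = t * d * t * f * (t * t) := by group
    rw [e, ht2]
    group
  -- `z = d⁻¹ f`
  set z : G := d⁻¹ * f with hz
  have hzD : z ∈ D := D.mul_mem (D.inv_mem hd) hf
  have hfe : f = d * z := by rw [hz]; group
  -- `z` also lies in `D^t`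
  have h4 : z = (t * f * t⁻¹) * (t * d * t⁻¹)⁻¹ := by
    have h5 := hcomm d hd d hd
    have h6 : f * (t * d * t⁻¹) = d * (t * f * t⁻¹) := by
      rw [← h2]
      exact (hcomm f hf d hd)
    calc z = d⁻¹ * f := rfl
      _ = d⁻¹ * (f * (t * d * t⁻¹)) * (t * d * t⁻¹)⁻¹ := by group
      _ = d⁻¹ * (d * (t * f * t⁻¹)) * (t * d * t⁻¹)⁻¹ := by rw [h6]
      _ = (t * f * t⁻¹) * (t * d * t⁻¹)⁻¹ := by group
  have hzt : z ∈ D.map (MulAut.conj t).toMonoidHom := by
    rw [h4]
    exact Subgroup.mul_mem _ ⟨f, hf, rfl⟩ (Subgroup.inv_mem _ ⟨d, hd, rfl⟩)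
  -- `z` is central in `D ⊔ D^t`
  obtain ⟨w, hw, hwz⟩ := hzt
  simp only [MulEquiv.coe_toMonoidHom, MulAut.conj_apply] at hwz
  have hzc1 : ∀ y ∈ D, z * y = y * z := by
    intro y hy
    rw [← hwz]
    exact (hcomm y hy w hw).symm
  have hzc2 : ∀ y, y ∈ D.map (MulAut.conj t).toMonoidHom → z * y = y * z := by
    rintro _ ⟨y, hy, rfl⟩
    exact hcomm z hzD y hy
  have hzcent : ∀ y ∈ D ⊔ D.map (MulAut.conj t).toMonoidHom, z * y = y * z := by
    intro y hy
    obtain ⟨y₁, hy₁, y₂, hy₂, rfl⟩ := mem_sup_of_commutator_eq_bot hDD hy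
    rw [← mul_assoc, hzc1 y₁ hy₁, mul_assoc, hzc2 y₂ hy₂, mul_assoc]
  refine ⟨d * (t * d * t⁻¹), (hLmem _).2 ⟨d, hd, rfl⟩, t * z * t⁻¹, ?_, ?_⟩
  · rw [hfe]
    group
  · -- `t z t⁻¹` is central as well
    intro y hy
    have hconj : t * y * t⁻¹ ∈ D ⊔ D.map (MulAut.conj t).toMonoidHom := by
      obtain ⟨y₁, hy₁, y₂, hy₂, rfl⟩ := mem_sup_of_commutator_eq_bot hDD hy
      have e1 : t * (y₁ * y₂) * t⁻¹ = (t * y₁ * t⁻¹) * (t * y₂ * t⁻¹) := by group
      rw [e1]
      refine Subgroup.mul_mem _ (mem_sup_right ⟨y₁, hy₁, rfl⟩) (mem_sup_left ?_)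
      obtain ⟨y₃, hy₃, rfl⟩ := hy₂
      simp only [MulEquiv.coe_toMonoidHom, MulAut.conj_apply]
      have e2 : t * (t * y₃ * t⁻¹) * t⁻¹ = y₃ := by
        rw [hti]
        calc t * (t * y₃ * t) * t = (t * t) * y₃ * (t * t) := by group
          _ = y₃ := by rw [ht2]; group
      rw [e2]
      exact hy₃
    have h7 := hzcent _ hconj
    calc t * z * t⁻¹ * y = t * (z * (t⁻¹ * y * t)) * t⁻¹ := by group
      _ = t * (z * (t * y * t⁻¹)) * t⁻¹ := by rw [hti]
      _ = t * ((t * y * t⁻¹) * z) * t⁻¹ := by rw [h7]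
      _ = (t * t) * y * (t⁻¹ * z * t⁻¹) := by group
      _ = y * (t⁻¹ * z * t⁻¹) := by rw [ht2]; group
      _ = y * (t * z * t⁻¹) := by rw [hti]


/-- `⁅J, T⁆` is normalized by `J`. -/
theorem conj_mem_commutator {J T : Subgroup G} {x n : G} (hx : x ∈ J) (hn : n ∈ ⁅J, T⁆) :
    x * n * x⁻¹ ∈ ⁅J, T⁆ := by
  rw [Subgroup.commutator_def] at hn ⊢
  induction hn using Subgroup.closure_induction with
  | mem y hy =>
    obtain ⟨j, hj, τ, hτ, rfl⟩ := hy
    have e : x * ⁅j, τ⁆ * x⁻¹ = ⁅x * j, τ⁆ * ⁅x, τ⁆⁻¹ := by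
      simp only [commutatorElement_def]; group
    rw [e]
    exact Subgroup.mul_mem _ (Subgroup.subset_closure ⟨_, J.mul_mem hx hj, τ, hτ, rfl⟩)
      (Subgroup.inv_mem _ (Subgroup.subset_closure ⟨_, hx, τ, hτ, rfl⟩))
  | one => simp
  | mul a b _ _ ha hb =>
    have e : x * (a * b) * x⁻¹ = (x * a * x⁻¹) * (x * b * x⁻¹) := by group
    rw [e]
    exact Subgroup.mul_mem _ ha hb
  | inv a _ ha =>
    have e : x * a⁻¹ * x⁻¹ = (x * a * x⁻¹)⁻¹ := by group
    rw [e]
    exact Subgroup.inv_mem _ ha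

/-- A component normalized by `T` either equals `⁅J, T⁆` or is centralized by `T`. -/
theorem eq_commutator_or_commutator_eq_bot {J T : Subgroup G} (hJ : IsQuasisimple J)
    (hT : T ≤ normalizer (J : Set G)) : J = ⁅J, T⁆ ∨ ⁅J, T⁆ = ⊥ := by
  have hle : ⁅J, T⁆ ≤ J := by
    rw [commutator_le]
    intro j hj τ hτ
    have h1 : τ * j⁻¹ * τ⁻¹ ∈ J := (mem_normalizer_iff.mp (hT hτ) j⁻¹).mp (J.inv_mem hj)
    have e : ⁅j, τ⁆ = j * (τ * j⁻¹ * τ⁻¹) := by
      rw [commutatorElement_def]; group
    rw [e]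
    exact J.mul_mem hj h1
  have hn : (⁅J, T⁆.subgroupOf J).Normal := by
    constructor
    intro n hn g
    rw [mem_subgroupOf] at hn ⊢
    exact conj_mem_commutator g.2 hn
  rcases normal_eq_top_or_le_center hJ (⁅J, T⁆.subgroupOf J) with h | h
  · left
    exact le_antisymm (subgroupOf_eq_top.mp h) hle
  · right
    apply commutator_eq_bot_of_perfect (commutator_self_of_quasisimple hJ)
    rw [eq_bot_iff, commutator_le]
    intro a ha b hb
    have ha' : (⟨a, hle ha⟩ : J) ∈ center J := h (by rw [mem_subgroupOf]; exact ha)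
    have := mem_center_iff.mp ha' ⟨b, hb⟩
    have h' : b * a = a * b := congrArg Subtype.val this
    rw [mem_bot, commutatorElement_eq_one_iff_commute]
    exact h'.symm

/-- A non-trivial perfect subgroup does not commute with itself. -/
theorem not_self_commute {L : Subgroup G} (hq : IsQuasisimple L) {J₁ J₂ : Subgroup G} (h1 : L ≤ J₁)
    (h2 : L ≤ J₂) (h : ⁅J₁, J₂⁆ = ⊥) : False := by
  have h3 : ⁅L, L⁆ ≤ ⁅J₁, J₂⁆ := commutator_mono h1 h2
  rw [commutator_self_of_quasisimple hq, h] at h3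
  exact ne_bot_of_quasisimple hq (le_bot_iff.mp h3)

/-- Subnormality of `L` in `C(t)` descends to a component `J ≤ C(t)`. -/
theorem subnormal_descend {C J L : Subgroup G} (hJC : J ≤ C) (hLJ : L ≤ J)
    (hs : (L.subgroupOf C).IsSubnormal) : (L.subgroupOf J).IsSubnormal := by
  have h : ((L.subgroupOf C).subgroupOf (J.subgroupOf C)).IsSubnormal := hs.subgroupOf
  have e : L.subgroupOf J =
      ((L.subgroupOf C).subgroupOf (J.subgroupOf C)).map (subgroupOfEquivOfLe hJC).toMonoidHom := by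
    ext x
    simp only [mem_subgroupOf, mem_map]
    constructor
    · intro hx
      refine ⟨⟨⟨x, hJC x.2⟩, by simpa [mem_subgroupOf] using x.2⟩, ?_, ?_⟩
      · simp [mem_subgroupOf, hx]
      · ext; rfl
    · rintro ⟨y, hy, rfl⟩
      simpa [mem_subgroupOf] using hy
  rw [e]
  exact h.map (subgroupOfEquivOfLe hJC).surjective

/-- Components of the centralizer of an involution and components of the group. -/
theorem tri (ft : FT G) (hL2 : pLayer 2 G = layer G) (t : G) (ht : orderOf t = 2) (L : Subgroup G)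
    (hLt : L ≤ centralizer ({t} : Set G))
    (hL : IsComponent (L.subgroupOf (centralizer ({t} : Set G)))) :
    ∃ D : Subgroup G, IsComponent D ∧ (L = D ∨ (L < D ∧ D = ⁅D, zpowers t⁆) ∨
      (D.map (MulAut.conj t).toMonoidHom ≠ D ∧
        L = (layer ↥((D ⊔ D.map (MulAut.conj t).toMonoidHom) ⊓ centralizer ({t} : Set G))).map
          ((D ⊔ D.map (MulAut.conj t).toMonoidHom) ⊓ centralizer ({t} : Set G)).subtype)) := by
  have ht2 : t * t = 1 := by rw [← pow_two, ← ht]; exact pow_orderOf_eq_one t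
  have hti : t⁻¹ = t := inv_eq_of_mul_eq_one_left ht2
  have hq : IsQuasisimple L := (quasisimple_subgroupOf_iff hLt).1 hL.2
  have hE : L ≤ layer G := le_layer ft hL2 ht hLt hL
  have hKa : ∀ k ∈ L, k * t = t * k := fun k hk => mem_centralizer_singleton_iff.1 (hLt hk)
  obtain ⟨J, hJ, -, halt⟩ := pump ht2 hKa hL.1 hq hE
  refine ⟨J, hJ, ?_⟩
  have hJt : IsComponent (J.map (MulAut.conj t).toMonoidHom) := isComponent_conj t hJ
  rcases halt with hLJ | ⟨hne, hmem⟩
  · by_cases hEq : L = J
    · exact Or.inl hEq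
    · refine Or.inr (Or.inl ⟨lt_of_le_of_ne hLJ hEq, ?_⟩)
      -- `t` normalizes `J`
      have hLJt : L ≤ J.map (MulAut.conj t).toMonoidHom := by
        intro k hk
        refine ⟨k, hLJ hk, ?_⟩
        simp only [MulEquiv.coe_toMonoidHom, MulAut.conj_apply]
        rw [← hKa k hk, mul_inv_cancel_right]
      have hJJt : J = J.map (MulAut.conj t).toMonoidHom := by
        rcases component_eq_or_commutator_eq_bot hJ hJt with h | h
        · exact h
        · exact (not_self_commute hq hLJ hLJt h).elim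
      have htN : (zpowers t : Subgroup G) ≤ normalizer (J : Set G) := by
        rw [zpowers_le]
        rw [mem_normalizer_iff]
        intro h
        constructor
        · intro hh
          have : t * h * t⁻¹ ∈ J.map (MulAut.conj t).toMonoidHom := ⟨h, hh, rfl⟩
          rwa [← hJJt] at this
        · intro hh
          rw [hJJt] at hh
          obtain ⟨y, hy, hy2⟩ := hh
          simp only [MulEquiv.coe_toMonoidHom, MulAut.conj_apply] at hy2
          have : y = h := mul_left_cancel (mul_right_cancel hy2)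
          rwa [← this]
      rcases eq_commutator_or_commutator_eq_bot hJ.2 htN with h | h
      · exact h
      · exfalso
        -- `J ≤ C(t)`
        have hJC : J ≤ centralizer ({t} : Set G) := by
          rw [← centralizer_zpowers_eq]
          rwa [← commutator_eq_bot_iff_le_centralizer]
        have hs := subnormal_descend hJC hLJ hL.1
        rcases subnormal_eq_top_or_le_center hJ.2 hs with h1 | h1
        · exact hEq (le_antisymm hLJ (subgroupOf_eq_top.mp h1))
        · apply ne_bot_of_quasisimple hq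
          rw [← commutator_self_of_quasisimple hq, eq_bot_iff, commutator_le]
          intro a ha b hb
          have ha' : (⟨a, hLJ ha⟩ : J) ∈ center J := h1 (by rw [mem_subgroupOf]; exact ha)
          have := mem_center_iff.mp ha' ⟨b, hLJ hb⟩
          have h' : b * a = a * b := congrArg Subtype.val this
          rw [mem_bot, commutatorElement_eq_one_iff_commute]
          exact h'.symm
  · refine Or.inr (Or.inr ⟨hne, ?_⟩)
    have hDD : ⁅J, J.map (MulAut.conj t).toMonoidHom⁆ = ⊥ := by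
      rcases component_eq_or_commutator_eq_bot hJ hJt with h | h
      · exact (hne h.symm).elim
      · exact h
    set M : Subgroup G := (J ⊔ J.map (MulAut.conj t).toMonoidHom) ⊓ centralizer ({t} : Set G) with hM
    have hLM : L ≤ M := by
      intro k hk
      refine ⟨?_, hLt hk⟩
      obtain ⟨j, hj, rfl⟩ := (hmem k).1 hk
      exact Subgroup.mul_mem _ (mem_sup_left hj) (mem_sup_right ⟨j, hj, rfl⟩)
    have hds : ∀ x ∈ M, ∃ k ∈ L, ∃ z, x = k * z ∧ ∀ y ∈ M, z * y = y * z := by
      intro x hx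
      obtain ⟨k, hk, z, hxz, hz⟩ := diag_structure ht2 hDD hmem hx
      exact ⟨k, hk, z, hxz, fun y hy => hz y hy.1⟩
    -- `L` is normal in `M`
    have hnorm : (L.subgroupOf M).Normal := by
      constructor
      intro n hn g
      rw [mem_subgroupOf] at hn ⊢
      obtain ⟨k, hk, z, hgz, hz⟩ := hds g g.2
      have e : ((g * n * g⁻¹ : M) : G) = k * n * k⁻¹ := by
        have hzn := hz n (hLM hn)
        simp only [Subgroup.coe_mul, Subgroup.coe_inv, hgz]
        calc k * z * (n : G) * (k * z)⁻¹ = k * (z * n) * z⁻¹ * k⁻¹ := by group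
          _ = k * (n * z) * z⁻¹ * k⁻¹ := by rw [hzn]
          _ = k * n * k⁻¹ := by group
      rw [e]
      exact L.mul_mem (L.mul_mem hk hn) (L.inv_mem hk)
    have hcomp : IsComponent (L.subgroupOf M) :=
      ⟨hnorm.isSubnormal, (quasisimple_subgroupOf_iff hLM).2 hq⟩
    -- the commutators of `M` lie in `L`
    have hcm : ∀ x ∈ M, ∀ y ∈ M, ⁅x, y⁆ ∈ L := by
      intro x hx y hy
      obtain ⟨k, hk, z, rfl, hz⟩ := hds x hx
      obtain ⟨k', hk', z', rfl, hz'⟩ := hds y hy
      have h1 : z * k' = k' * z := hz k' (hLM hk')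
      have h2 : z * z' = z' * z := by
        have hz'M : z' ∈ M := by
          have : z' = k'⁻¹ * (k' * z') := by group
          rw [this]
          exact M.mul_mem (M.inv_mem (hLM hk')) hy
        exact hz z' hz'M
      have h3 : k * z' = z' * k := (hz' k (hLM hk)).symm
      have e : ⁅k * z, k' * z'⁆ = ⁅k, k'⁆ := by
        simp only [commutatorElement_def]
        calc k * z * (k' * z') * (k * z)⁻¹ * (k' * z')⁻¹
            = k * (z * k') * z' * z⁻¹ * k⁻¹ * z'⁻¹ * k'⁻¹ := by group
          _ = k * k' * (z * z') * z⁻¹ * k⁻¹ * z'⁻¹ * k'⁻¹ := by rw [h1]; group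
          _ = k * k' * (z' * z) * z⁻¹ * k⁻¹ * z'⁻¹ * k'⁻¹ := by rw [h2]
          _ = k * k' * z' * k⁻¹ * z'⁻¹ * k'⁻¹ := by group
          _ = k * k' * k⁻¹ * (k * z') * k⁻¹ * z'⁻¹ * k'⁻¹ := by group
          _ = k * k' * k⁻¹ * (z' * k) * k⁻¹ * z'⁻¹ * k'⁻¹ := by rw [h3]
          _ = k * k' * k⁻¹ * k'⁻¹ := by group
      rw [e, commutatorElement_def]
      exact L.mul_mem (L.mul_mem (L.mul_mem hk hk') (L.inv_mem hk)) (L.inv_mem hk')
    have hlay : layer ↥M = L.subgroupOf M := by
      apply le_antisymm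
      · rw [layer]
        apply sSup_le
        intro K' hK'
        rw [← commutator_self_of_quasisimple hK'.2, commutator_le]
        intro a _ b _
        rw [mem_subgroupOf]
        exact hcm a a.2 b b.2
      · exact le_layer_of_isComponent hcomp
    rw [hlay]
    ext x
    constructor
    · intro hx
      exact ⟨⟨x, hLM hx⟩, by rw [SetLike.mem_coe, mem_subgroupOf]; exact hx, rfl⟩
    · rintro ⟨y, hy, rfl⟩
      rw [SetLike.mem_coe, mem_subgroupOf] at hy
      exact hy

end Cfsg.Agent.Lib.StdFT.Tri
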